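import Cfsg.Agent.Chev54.RootMove.Level
import Cfsg.Agent.CrossChar56.Common
import Mathlib.GroupTheory.Subgroup.Simple

/-!
Nontrivial representations of a simple Chevalley group move every root group; commutation on eigenvectors.
-/

set_option autoImplicit false

noncomputable section

namespace Cfsg.Agent.RootMove54

open Cfsg.Lie Cfsg.Agent.ChevCore Cfsg.Agent.KnownSimple.Steinberg

universe u

variable {D : ChevalleyDatum} [Fast D] {F : Type u} [Field F]

theorem X_eq_one_iff (hS : SLD D) (r : Rt D) (t : F) : X hS r t = 1 ↔ t = 0 := by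
  refine ⟨fun h => ?_, fun h => h ▸ X_zero hS r⟩
  by_contra ht
  have hn := hS.good.toGood.neg_ne r.isLt
  refine hn (hS.xg_root_eq r.isLt (hS.good.toGood.neg_lt r.isLt) ht (u := 0) ?_).symm
  have h1 : xg D F r.val t = 1 := congrArg Subtype.val h
  have h2 : xg D F (D.neg r.val) (0 : F) = 1 :=
    congrArg Subtype.val (X_zero hS ⟨D.neg r.val, hS.good.toGood.neg_lt r.isLt⟩)
  rw [h1, h2]

namespace Ctx

variable [Fintype F] {k : ℕ} (C : Ctx D F k)

theorem move_root (hsimple : IsSimpleGroup ↥(D.group F)) (hρ : C.ρ.IsIrreducible) (hk : 2 ≤ k)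
    (r : Rt D) : ∃ x, C.ρ (X C.hS r (1 : F)) x ≠ x := by
  obtain ⟨g, hg⟩ := Cfsg.Agent.CrossChar56.exists_ne_one_of_irreducible C.ρ hρ hk
  by_contra hx
  push Not at hx
  haveI := hsimple
  let f := Cfsg.Agent.CrossChar56.toGLHom C.ρ
  rcases (MonoidHom.normal_ker f).eq_bot_or_eq_top with h | h
  · have h1 : X C.hS r (1 : F) ∈ f.ker := by
      rw [MonoidHom.mem_ker, Cfsg.Agent.CrossChar56.toGLHom_eq_one_iff]
      exact LinearMap.ext hx
    rw [h, Subgroup.mem_bot, X_eq_one_iff] at h1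
    exact one_ne_zero h1
  · refine hg ((Cfsg.Agent.CrossChar56.toGLHom_eq_one_iff C.ρ g).1 ?_)
    exact MonoidHom.mem_ker.1 (h ▸ Subgroup.mem_top g)

theorem mf_lt_of_moved {r : Rt D} (hx : ∃ x, C.ρ (X C.hS r (1 : F)) x ≠ x) {P : List (Rt D)}
    (hr : r ∈ P) : C.mf P (fun _ => 0) < k := by
  obtain ⟨x, hx⟩ := hx
  have hlt : C.eig P (fun _ => 0) < ⊤ := lt_of_le_of_ne le_top fun e => hx <| by
    have := (e ▸ Submodule.mem_top : x ∈ C.eig P (fun _ => 0)) r hr 1
    rwa [zero_mul, AddChar.map_zero_eq_one, one_smul] at this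
  have := Submodule.finrank_lt_finrank_of_lt hlt
  rwa [finrank_top, Module.finrank_fin_fun] at this

/-- a root that is a commutator of two root groups acting by scalars on `v` fixes `v` -/
theorem fix_of_scalar {r s b : Rt D} {z : ℤ} (he : ent D r s = some (b, z)) {v : Fin k → ℂ}
    (hr : ∀ t, ∃ l : ℂ, C.ρ (X C.hS r t) v = l • v) (hs : ∀ t, ∃ l : ℂ, C.ρ (X C.hS s t) v = l • v)
    (y : F) : C.ρ (X C.hS b y) v = v := by
  obtain ⟨-, hz⟩ := ent_some C.hS he
  have hz' : (z : F) ≠ 0 := cast_sign_ne_zero hz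
  set t : F := -(y / (z : F)) with ht
  have e : X C.hS b y = (X C.hS s (1 : F))⁻¹ * ((X C.hS r t)⁻¹ * X C.hS s 1 * X C.hS r t) := by
    rw [X_conj C.hS r s b he, inv_mul_cancel_left]
    congr 1
    rw [ht]
    field_simp
  obtain ⟨l, hl⟩ := hr t
  obtain ⟨m, hm⟩ := hs 1
  have key : C.ρ (X C.hS r t) (C.ρ (X C.hS s 1) v) = C.ρ (X C.hS s 1) (C.ρ (X C.hS r t) v) := by
    rw [hl, hm, map_smul, map_smul, hl, hm, smul_comm]
  rw [e, C.apply_mul, mul_assoc, C.apply_mul, C.apply_mul, ← key, C.apply_inv_self, C.apply_inv_self]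

/-- if `r` is trivial on an invariant fixed space then so is the root `c` of its commutator with `s` -/
theorem fixed_of_trivial {P : List (Rt D)} {r s c : Rt D} {z : ℤ} (he : ent D r s = some (c, z))
    (hs : stableB P s = true) (hr : ∀ x ∈ C.eig P (fun _ => 0), ∀ t, C.ρ (X C.hS r t) x = x)
    {v : Fin k → ℂ} (hv : v ∈ C.eig P (fun _ => 0)) (y : F) : C.ρ (X C.hS c y) v = v := by
  obtain ⟨-, hz⟩ := ent_some C.hS he
  have hz' : (z : F) ≠ 0 := cast_sign_ne_zero hz
  set t : F := -(y / (z : F)) with ht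
  have e : X C.hS c y = (X C.hS s (1 : F))⁻¹ * ((X C.hS r t)⁻¹ * X C.hS s 1 * X C.hS r t) := by
    rw [X_conj C.hS r s c he, inv_mul_cancel_left]
    congr 1
    rw [ht]
    field_simp
  have hsv : C.ρ (X C.hS s 1) v ∈ C.eig P (fun _ => 0) :=
    C.inv_of_fix hs (fun t x _ => by
      rcases ex : ent D s x with _ | ⟨c', z'⟩
      · exact mvf_none ex t _
      · rw [mvf_some ex, mul_zero, neg_zero, add_zero]) 1 hv
  have h1 : C.ρ (X C.hS r t)⁻¹ (C.ρ (X C.hS s 1) v) = C.ρ (X C.hS s 1) v := by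
    rw [← X_neg]; exact hr _ hsv _
  rw [e, C.apply_mul, mul_assoc, C.apply_mul, C.apply_mul, hr v hv, h1, C.apply_inv_self]

end Ctx

end Cfsg.Agent.RootMove54
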