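import Cfsg.Agent.Chev54.RootMove.Eigen

/-!
Counting joint eigenvectors: splitting along several root groups and producing prescribed characters.
-/

set_option autoImplicit false

noncomputable section

namespace Cfsg.Agent.RootMove54

open Cfsg.Lie Cfsg.Agent.ChevCore Cfsg.Agent.KnownSimple.Steinberg

universe u

variable {D : ChevalleyDatum} [Fast D] {F : Type u} [Field F] [Fintype F] {k : ℕ}

namespace Ctx

variable (C : Ctx D F k)

/-- the roots of `Rs` can be split off one by one, the commutators lying in the frozen zero set `Z` -/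
def splitB (Z : List (Rt D)) : List (Rt D) → List (Rt D) → Bool
  | _, [] => true
  | P, r :: Rs => decide (r ∉ P) && (Z.all fun z => decide (z ∈ P)) && (P.all fun s =>
      decide (s.val ≠ nng D r.val) &&
        match ent D r s with
        | none => true
        | some (c, _) => decide (c ∈ Z)) && splitB Z (r :: P) Rs

theorem split_one {Z P : List (Rt D)} {r : Rt D} {Rs : List (Rt D)}
    (h : splitB Z P (r :: Rs) = true) {f : Rt D → F} (hf : ∀ z ∈ Z, f z = 0) :
    C.mf P f = ∑ a : F, C.mf (r :: P) (Function.update f r a) := by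
  simp only [splitB, nng_eq, Bool.and_eq_true, decide_eq_true_eq, List.all_eq_true] at h
  obtain ⟨⟨⟨hr, hZ⟩, hP⟩, -⟩ := h
  refine C.finrank_split r P f hr fun u x hx => C.inv_of_fix (stableB_iff.2 fun s hs => ?_) ?_ u hx
  · obtain ⟨h1, h2⟩ := hP s hs
    refine ⟨h1, ?_⟩
    rcases e : ent D r s with _ | ⟨c, z⟩
    · exact Or.inl rfl
    · rw [e] at h2
      exact Or.inr ⟨c, z, rfl, hZ c (of_decide_eq_true h2)⟩
  · intro t s hs
    obtain ⟨-, h2⟩ := hP s hs
    rcases e : ent D r s with _ | ⟨c, z⟩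
    · exact mvf_none e t f
    · rw [e] at h2
      rw [mvf_some e, hf c (of_decide_eq_true h2), mul_zero, neg_zero, add_zero]

theorem splitB_tail {Z P : List (Rt D)} {r : Rt D} {Rs : List (Rt D)}
    (h : splitB Z P (r :: Rs) = true) : splitB Z (r :: P) Rs = true ∧ r ∉ P ∧ ∀ z ∈ Z, z ∈ P := by
  simp only [splitB, Bool.and_eq_true, decide_eq_true_eq, List.all_eq_true] at h
  exact ⟨h.2, h.1.1.1, h.1.1.2⟩

theorem update_agree {P : List (Rt D)} {r : Rt D} (hr : r ∉ P) (f : Rt D → F) (a : F) :
    ∀ x ∈ P, Function.update f r a x = f x :=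
  fun x hx => Function.update_of_ne (by rintro rfl; exact hr hx) _ _

theorem split_lower {Z : List (Rt D)} (Rs : List (Rt D)) :
    ∀ (P : List (Rt D)) (f : Rt D → F), splitB Z P Rs = true → (∀ z ∈ Z, f z = 0) → ∀ c : ℕ,
      (∀ g : Rt D → F, (∀ x ∈ P, g x = f x) → c ≤ C.mf (Rs ++ P) g) →
      Fintype.card F ^ Rs.length * c ≤ C.mf P f := by
  induction Rs with
  | nil => intro P f _ _ c h; simpa using h f fun _ _ => rfl
  | cons r Rs ih =>
    intro P f hB hf c h
    obtain ⟨hB', hr, hZ⟩ := splitB_tail hB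
    rw [C.split_one hB hf]
    calc Fintype.card F ^ (r :: Rs).length * c = ∑ _a : F, Fintype.card F ^ Rs.length * c := by
          rw [Finset.sum_const, Finset.card_univ, smul_eq_mul, List.length_cons, pow_succ]; ring
      _ ≤ _ := Finset.sum_le_sum fun a _ => by
          refine ih _ _ hB' (fun z hz => by rw [update_agree hr f a z (hZ z hz), hf z hz]) c fun g hg => ?_
          refine (h g fun x hx => ?_).trans (le_of_eq (C.mf_congr (fun x => ?_) fun _ _ => rfl))
          · rw [hg x (List.mem_cons_of_mem _ hx), update_agree hr f a x hx]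
          · simp only [List.mem_append, List.mem_cons]; tauto

theorem split_upper {Z : List (Rt D)} (Rs : List (Rt D)) :
    ∀ (P : List (Rt D)) (f : Rt D → F), splitB Z P Rs = true → (∀ z ∈ Z, f z = 0) → ∀ c : ℕ,
      (∀ g : Rt D → F, (∀ x ∈ P, g x = f x) → C.mf (Rs ++ P) g ≤ c) →
      C.mf P f ≤ Fintype.card F ^ Rs.length * c := by
  induction Rs with
  | nil => intro P f _ _ c h; simpa using h f fun _ _ => rfl
  | cons r Rs ih =>
    intro P f hB hf c h
    obtain ⟨hB', hr, hZ⟩ := splitB_tail hB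
    rw [C.split_one hB hf]
    calc _ ≤ ∑ _a : F, Fintype.card F ^ Rs.length * c := Finset.sum_le_sum fun a _ => by
          refine ih _ _ hB' (fun z hz => by rw [update_agree hr f a z (hZ z hz), hf z hz]) c fun g hg => ?_
          refine le_trans (le_of_eq (C.mf_congr (fun x => ?_) fun _ _ => rfl)) (h g fun x hx => ?_)
          · simp only [List.mem_append, List.mem_cons]; tauto
          · rw [hg x (List.mem_cons_of_mem _ hx), update_agree hr f a x hx]
      _ = _ := by rw [Finset.sum_const, Finset.card_univ, smul_eq_mul, List.length_cons, pow_succ]; ring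

/-- only the trivial extension of `f` to the roots of `Rs` occurs -/
theorem split_zero {Z : List (Rt D)} (Rs : List (Rt D)) :
    ∀ (P : List (Rt D)) (f : Rt D → F), splitB Z P Rs = true → (∀ z ∈ Z, f z = 0) →
      (∀ x ∈ Rs, f x = 0) →
      (∀ g : Rt D → F, (∀ x ∈ P, g x = f x) → (∃ r ∈ Rs, g r ≠ 0) → C.mf (Rs ++ P) g = 0) →
      C.mf P f ≤ C.mf (Rs ++ P) f := by
  induction Rs with
  | nil => intro P f _ _ _ _; simp
  | cons r Rs ih =>
    intro P f hB hf hf0 h
    obtain ⟨hB', hr, hZ⟩ := splitB_tail hB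
    have hcg : ∀ g : Rt D → F, C.mf (Rs ++ r :: P) g = C.mf (r :: Rs ++ P) g := fun g =>
      C.mf_congr (fun x => by simp only [List.mem_append, List.mem_cons]; tauto) fun _ _ => rfl
    rw [C.split_one hB hf, Finset.sum_eq_single (0 : F)]
    · rw [show Function.update f r 0 = f by rw [← hf0 r List.mem_cons_self]; exact Function.update_eq_self r f]
      refine (ih _ f hB' hf (fun x hx => hf0 x (List.mem_cons_of_mem _ hx)) fun g hg hne => ?_).trans
        (le_of_eq (hcg f))
      obtain ⟨x, hx, hx0⟩ := hne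
      rw [hcg]
      exact h g (fun y hy => hg y (List.mem_cons_of_mem _ hy)) ⟨x, List.mem_cons_of_mem _ hx, hx0⟩
    · intro a _ ha
      refine Nat.le_zero.1 (le_trans (C.split_upper Rs _ _ hB'
        (fun z hz => by rw [update_agree hr f a z (hZ z hz), hf z hz]) 0 fun g hg => le_of_eq ?_)
        (le_of_eq (mul_zero _)))
      rw [hcg]
      refine h g (fun y hy => by rw [hg y (List.mem_cons_of_mem _ hy), update_agree hr f a y hy]) ⟨r, List.mem_cons_self, ?_⟩
      rw [hg r List.mem_cons_self, Function.update_self]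
      exact ha
    · intro h0; exact absurd (Finset.mem_univ _) h0

/-- a nontrivial character occurs when the fixed space is smaller -/
theorem exists_ne_of_lt {Z Rs P : List (Rt D)} {f : Rt D → F} (hB : splitB Z P Rs = true)
    (hf : ∀ z ∈ Z, f z = 0) (hf0 : ∀ x ∈ Rs, f x = 0) (h : C.mf (Rs ++ P) f < C.mf P f) :
    ∃ g : Rt D → F, (∀ x ∈ P, g x = f x) ∧ (∃ r ∈ Rs, g r ≠ 0) ∧ 1 ≤ C.mf (Rs ++ P) g := by
  by_contra hne
  push Not at hne
  exact absurd (C.split_zero Rs P f hB hf hf0 fun g hg hr => Nat.lt_one_iff.1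
    (hne g hg (let ⟨r, h1, h2⟩ := hr; ⟨r, h1, h2⟩))) (not_le.2 h)

/-- `x_r` moves `u` to `s` without disturbing the values known on `Z` and `K` -/
def stepsB (P Z : List (Rt D)) (u : Rt D) : List (Rt D) → List (Rt D × Rt D) → Bool
  | _, [] => true
  | K, (r, s) :: st => stableB P r &&
      (match ent D r s with | none => false | some (c, _) => decide (c = u)) &&
      (((u :: Z) ++ K).all fun x => match ent D r x with
        | none => true
        | some (c, _) => decide (c ∈ Z)) && stepsB P Z u (s :: K) st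

/-- prescribed values at the targets -/
theorem lift {P Z : List (Rt D)} {u : Rt D} {c0 : ℕ} (st : List (Rt D × Rt D)) :
    ∀ (K : List (Rt D)) (f : Rt D → F), stepsB P Z u K st = true → (∀ z ∈ Z, f z = 0) → f u ≠ 0 →
      c0 ≤ C.mf P f → ∀ a : Rt D → F, ∃ g : Rt D → F, c0 ≤ C.mf P g ∧
        (∀ x ∈ (u :: Z) ++ K, g x = f x) ∧ ∀ p ∈ st, g p.2 = a p.2 := by
  induction st with
  | nil => intro K f _ _ _ hc a; exact ⟨f, hc, fun _ _ => rfl, by simp⟩
  | cons p st ih =>
    obtain ⟨r, s⟩ := p
    intro K f hB hf hu hc a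
    simp only [stepsB, Bool.and_eq_true, List.all_eq_true] at hB
    obtain ⟨⟨⟨hst, hs⟩, hK⟩, hB'⟩ := hB
    rcases e : ent D r s with _ | ⟨c, z⟩
    · rw [e] at hs; simp at hs
    rw [e] at hs
    obtain rfl : c = u := of_decide_eq_true hs
    obtain ⟨-, hz⟩ := ent_some C.hS e
    have hz0 : (z : F) * f c ≠ 0 := mul_ne_zero (cast_sign_ne_zero hz) hu
    set t : F := (f s - a s) / ((z : F) * f c) with ht
    have hfix : ∀ x ∈ (c :: Z) ++ K, mvf r t f x = f x := by
      intro x hx
      have := hK x hx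
      rcases ex : ent D r x with _ | ⟨c', z'⟩
      · exact mvf_none ex t f
      · rw [ex] at this
        rw [mvf_some ex, hf c' (of_decide_eq_true this), mul_zero, neg_zero, add_zero]
    have hu' : mvf r t f c = f c := hfix c (by simp)
    obtain ⟨g, hg1, hg2, hg3⟩ := ih (s :: K) (mvf r t f) hB'
      (fun x hx => by rw [hfix x (by simp [hx]), hf x hx]) (by rw [hu']; exact hu)
      (hc.trans (C.mf_le_mvf hst t f)) a
    refine ⟨g, hg1, fun x hx => ?_, ?_⟩
    · rw [hg2 x ?_, hfix x hx]
      simp only [List.mem_append, List.mem_cons] at hx ⊢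
      tauto
    · intro p hp
      rcases List.mem_cons.1 hp with rfl | hp
      · have h1 : (z : F) ≠ 0 := cast_sign_ne_zero hz
        rw [hg2 s (by simp), mvf_some e, ht]
        field_simp
        ring
      · exact hg3 p hp

/-- the count of the characters with leading root `u` -/
theorem cell_bound {Z P : List (Rt D)} {u : Rt D} {st : List (Rt D × Rt D)} {K : List (Rt D)}
    {Z' P' : List (Rt D)} {c0 : ℕ} {f : Rt D → F}
    (hsp : splitB Z' P' (st.map Prod.snd) = true) (hstep : stepsB P Z u K st = true)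
    (hP' : P'.all (fun x => decide (x ∈ (u :: Z) ++ K) && decide (x ∈ P)) = true)
    (hT : st.all (fun p => decide (p.2 ∈ P)) = true)
    (hf : ∀ z ∈ Z, f z = 0) (hf' : ∀ z ∈ Z', f z = 0) (hu : f u ≠ 0) (hc : c0 ≤ C.mf P f) :
    Fintype.card F ^ st.length * c0 ≤ C.mf P' f := by
  simp only [List.all_eq_true, Bool.and_eq_true, decide_eq_true_eq, List.all_eq_true] at hP' hT
  have := C.split_lower (st.map Prod.snd) P' f hsp hf' c0 fun g hg => ?_
  · rwa [List.length_map] at this
  obtain ⟨h, hh1, hh2, hh3⟩ := C.lift st K f hstep hf hu hc g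
  refine hh1.trans (C.mf_mono fun x hx => ?_)
  rcases List.mem_append.1 hx with hx | hx
  · obtain ⟨p, hp, rfl⟩ := List.mem_map.1 hx
    exact ⟨hT p hp, hh3 p hp⟩
  · exact ⟨(hP' x hx).2, by rw [hh2 x (hP' x hx).1, hg x hx]⟩

/-- the trace of a root element -/
theorem trace_X (r : Rt D) (t : F) : C.ρ.character (X C.hS r t) =
    ∑ a : F, C.ψ (a * t) * (C.mf [r] (fun _ => a) : ℂ) := by
  classical
  have hqc : (Fintype.card F : ℂ) ≠ 0 := Nat.cast_ne_zero.mpr Fintype.card_ne_zero
  let Q : F → Module.End ℂ (Fin k → ℂ) := fun a =>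
    (Fintype.card F : ℂ)⁻¹ • ∑ u : F, C.ψ (-(a * u)) • C.ρ (X C.hS r u)
  have hQ : ∀ a x, Q a x =
      (Fintype.card F : ℂ)⁻¹ • ∑ u : F, C.ψ (-(a * u)) • C.ρ (X C.hS r u) x := by
    intro a x; simp [Q]
  have hmem : ∀ a x, Q a x ∈ C.eig [r] (fun _ => a) := by
    intro a x s hs v
    obtain rfl := List.mem_singleton.1 hs
    rw [hQ, map_smul, map_sum, smul_comm (C.ψ _)]
    refine congrArg _ ?_
    rw [Finset.smul_sum]
    refine Fintype.sum_equiv (Equiv.addLeft v) _ _ fun u => ?_
    rw [Equiv.coe_addLeft, map_smul, ← C.apply_mul, ← X_add, smul_smul, ← AddChar.map_add_eq_mul]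
    congr 2
    ring
  have hfix : ∀ a x, x ∈ C.eig [r] (fun _ => a) → Q a x = x := by
    intro a x hx
    rw [hQ]
    have : ∀ u : F, C.ψ (-(a * u)) • C.ρ (X C.hS r u) x = x := fun u => by
      rw [hx r (by simp) u, smul_smul, ← AddChar.map_add_eq_mul, neg_add_cancel,
        AddChar.map_zero_eq_one, one_smul]
    rw [Finset.sum_congr rfl fun u _ => this u, Finset.sum_const, Finset.card_univ,
      ← Nat.cast_smul_eq_nsmul ℂ, inv_smul_smul₀ hqc]
  have hproj : ∀ a, LinearMap.IsProj (C.eig [r] (fun _ => a)) (Q a) := fun a =>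
    ⟨hmem a, hfix a⟩
  have hsum : C.ρ (X C.hS r t) = ∑ a : F, C.ψ (a * t) • Q a := by
    apply LinearMap.ext; intro x
    rw [LinearMap.sum_apply]
    simp only [LinearMap.smul_apply, hQ, smul_comm _ ((Fintype.card F : ℂ)⁻¹), ← Finset.smul_sum]
    simp only [Finset.smul_sum (r := (C.ψ _)), smul_smul, ← AddChar.map_add_eq_mul]
    rw [Finset.sum_comm]
    have : ∀ u : F, (∑ a : F, C.ψ (a * t + -(a * u)) • C.ρ (X C.hS r u) x) =
        if u = t then (Fintype.card F : ℂ) • C.ρ (X C.hS r u) x else 0 := by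
      intro u
      rw [← Finset.sum_smul]
      have e : ∑ a : F, C.ψ (a * t + -(a * u)) = if t - u = 0 then (Fintype.card F : ℂ) else 0 := by
        have e0 := AddChar.sum_mulShift (t - u) C.hψ
        simpa [mul_sub, sub_eq_add_neg, mul_add] using e0
      rw [e]
      by_cases hu : u = t
      · rw [if_pos (sub_eq_zero.2 hu.symm), if_pos hu]
      · rw [if_neg (fun h => hu (sub_eq_zero.1 h).symm), if_neg hu, zero_smul]
    rw [Finset.sum_congr rfl fun u _ => this u, Finset.sum_ite_eq', if_pos (Finset.mem_univ _),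
      inv_smul_smul₀ hqc]
  rw [Representation.character, hsum, map_sum]
  refine Finset.sum_congr rfl fun a _ => ?_
  rw [map_smul, trace_proj (hproj a), smul_eq_mul]
  rfl

end Ctx

end Cfsg.Agent.RootMove54
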