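import Cfsg.Agent.KnownSimple.Steinberg.SLFacts
import Cfsg.Agent.Lib.ChevCore.Link
import Mathlib.NumberTheory.LegendreSymbol.AddCharacter
import Mathlib.RepresentationTheory.Basic
import Mathlib.LinearAlgebra.Trace

/-!
Joint eigenspaces of commuting root groups of a simply laced Chevalley group in a complex representation,
and their transport by root elements.
-/

set_option autoImplicit false

noncomputable section

namespace Cfsg.Agent.RootMove54

open Cfsg.Lie Cfsg.Agent.ChevCore Cfsg.Agent.KnownSimple.Steinberg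

universe u

/-- the index type of the roots -/
abbrev Rt (D : ChevalleyDatum) : Type := Fin D.nroots

/-- accessors of a datum that the kernel evaluates quickly -/
class Fast (D : ChevalleyDatum) where
  acc : Acc
  look_eq : acc.look = D.chainEntry
  negf_eq : acc.negf = D.neg

/-- packed tables give fast accessors -/
@[reducible] def Fast.ofLink {D : ChevalleyDatum} {P : Packed} (h : chkLink D P = true) : Fast D where
  acc := fast D P
  look_eq := by rw [(fast_eq_std h).1]; rfl
  negf_eq := by rw [(fast_eq_std h).1]; rfl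

/-- negation of roots, through the fast accessors -/
def nng (D : ChevalleyDatum) [Fast D] (r : ℕ) : ℕ := (Fast.acc D).negf r

theorem nng_eq (D : ChevalleyDatum) [Fast D] (r : ℕ) : nng D r = D.neg r := by
  rw [nng, Fast.negf_eq]

/-- the root `r + s` with its structure constant -/
def ent (D : ChevalleyDatum) [Fast D] (r s : Rt D) : Option (Rt D × ℤ) :=
  match (Fast.acc D).look r.val s.val with
  | [] => none
  | e :: _ => if h : e.1 < D.nroots then some (⟨e.1, h⟩, e.2) else none

variable {D : ChevalleyDatum} [Fast D] {F : Type u} [Field F]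

theorem ent_none (hS : SLD D) {r s : Rt D} (h : ent D r s = none) : D.chainEntry r.val s.val = [] := by
  rcases hS.entry_cases r.isLt s.isLt with e | ⟨c, z, e, hc, -⟩
  · exact e
  · simp [ent, Fast.look_eq, e, hc] at h

theorem ent_some {r s c : Rt D} {z : ℤ} (hS : SLD D) (h : ent D r s = some (c, z)) :
    D.chainEntry r.val s.val = [(c.val, z)] ∧ z * z = 1 := by
  rcases hS.entry_cases r.isLt s.isLt with e | ⟨c', z', e, hc, hz, -⟩
  · simp [ent, Fast.look_eq, e] at h
  · simp only [ent, Fast.look_eq, e, dif_pos hc, Option.some.injEq, Prod.mk.injEq] at h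
    obtain ⟨h1, rfl⟩ := h
    exact ⟨by rw [e, ← h1], hz⟩

theorem cast_sign_ne_zero {z : ℤ} (h : z * z = 1) : (z : F) ≠ 0 := fun h0 => by
  have e := congrArg (Int.cast : ℤ → F) h
  rw [Int.cast_mul, h0, zero_mul, Int.cast_one] at e
  exact zero_ne_one e

/-- a root element in the group -/
def X (hS : SLD D) (r : Rt D) (t : F) : ↥(D.group F) :=
  ⟨xg D F r.val t, Subgroup.subset_closure ⟨r, t, by
    rw [hS.good.toGood.val_xg]; simp [ChevalleyDatum.x, r.isLt]⟩⟩

variable (hS : SLD D)

theorem X_add (r : Rt D) (t u : F) : X hS r (t + u) = X hS r t * X hS r u :=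
  Subtype.ext (hS.good.toGood.xg_add r.val t u)

theorem X_zero (r : Rt D) : X hS r (0 : F) = 1 := by
  have h := X_add hS r (0 : F) 0
  rw [add_zero] at h
  exact left_eq_mul.1 h

theorem X_neg (r : Rt D) (t : F) : X hS r (-t) = (X hS r t)⁻¹ :=
  eq_inv_of_mul_eq_one_left (by rw [← X_add, neg_add_cancel, X_zero])

theorem X_comm (r s : Rt D) (hn : s.val ≠ D.neg r.val) (h : ent D r s = none) (t u : F) :
    (X hS r t)⁻¹ * X hS s u * X hS r t = X hS s u := by
  have e : Commute (xg D F r.val t) (xg D F s.val u) :=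
    hS.xg_commute r.isLt s.isLt hn (ent_none hS h) t u
  apply Subtype.ext
  show (xg D F r.val t)⁻¹ * xg D F s.val u * xg D F r.val t = xg D F s.val u
  rw [mul_assoc, ← e.eq, inv_mul_cancel_left]

theorem X_conj (r s c : Rt D) {z : ℤ} (h : ent D r s = some (c, z)) (t u : F) :
    (X hS r t)⁻¹ * X hS s u * X hS r t = X hS s u * X hS c (-((z : F) * t * u)) := by
  obtain ⟨he, -⟩ := ent_some hS h
  obtain ⟨h1, h2⟩ := hS.bracket_ne r.isLt s.isLt he
  apply Subtype.ext
  show (xg D F r.val t)⁻¹ * xg D F s.val u * xg D F r.val t =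
    xg D F s.val u * xg D F c.val (-((z : F) * t * u))
  rw [mul_assoc, hS.good.xg_comm r.isLt s.isLt h1 h2 t u, hS.commWord_eq r.isLt s.isLt, he,
    mul_assoc (xg D F r.val t), inv_mul_cancel_left]
  simp [wordG]

/-- a representation together with a primitive additive character -/
structure Ctx (D : ChevalleyDatum) (F : Type u) [Field F] [Fintype F] (k : ℕ) where
  hS : SLD D
  ρ : Representation ℂ ↥(D.group F) (Fin k → ℂ)
  ψ : AddChar F ℂ
  hψ : ψ.IsPrimitive

/-- the trace of a projection is the dimension of its image -/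
theorem trace_proj {V : Type} [AddCommGroup V] [Module ℂ V] [FiniteDimensional ℂ V] {p : Submodule ℂ V}
    {f : V →ₗ[ℂ] V} (h : LinearMap.IsProj p f) : LinearMap.trace ℂ V f = (Module.finrank ℂ p : ℂ) :=
  h.trace

namespace Ctx

variable [Fintype F] {k : ℕ} (C : Ctx D F k)

/-- joint eigenspace of the root groups in `P`, with character given by `f` -/
def eig (P : List (Rt D)) (f : Rt D → F) : Submodule ℂ (Fin k → ℂ) where
  carrier := {x | ∀ s ∈ P, ∀ u : F, C.ρ (X C.hS s u) x = C.ψ (f s * u) • x}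
  add_mem' {x y} hx hy s hs u := by rw [map_add, hx s hs u, hy s hs u, smul_add]
  zero_mem' s _ u := by rw [map_zero, smul_zero]
  smul_mem' c x hx s hs u := by rw [map_smul, hx s hs u, smul_comm]

theorem mem_eig {P : List (Rt D)} {f : Rt D → F} {x : Fin k → ℂ} :
    x ∈ C.eig P f ↔ ∀ s ∈ P, ∀ u : F, C.ρ (X C.hS s u) x = C.ψ (f s * u) • x := Iff.rfl

/-- multiplicity of a joint character -/
def mf (P : List (Rt D)) (f : Rt D → F) : ℕ := Module.finrank ℂ ↥(C.eig P f)

theorem mf_nil (f : Rt D → F) : C.mf [] f = k := by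
  have : C.eig [] f = ⊤ := by ext x; simp [mem_eig]
  rw [mf, this, finrank_top, Module.finrank_fin_fun]

theorem eig_mono {P P' : List (Rt D)} {f g : Rt D → F} (h : ∀ s ∈ P, s ∈ P' ∧ g s = f s) :
    C.eig P' g ≤ C.eig P f := fun x hx s hs u => by
  rw [C.mem_eig.1 hx s (h s hs).1 u, (h s hs).2]

theorem mf_mono {P P' : List (Rt D)} {f g : Rt D → F} (h : ∀ s ∈ P, s ∈ P' ∧ g s = f s) :
    C.mf P' g ≤ C.mf P f :=
  Submodule.finrank_mono (C.eig_mono h)

theorem mf_congr {P P' : List (Rt D)} {f g : Rt D → F} (hP : ∀ s, s ∈ P ↔ s ∈ P')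
    (h : ∀ s ∈ P, f s = g s) : C.mf P f = C.mf P' g :=
  le_antisymm (C.mf_mono fun s hs => ⟨(hP s).2 hs, h s ((hP s).2 hs)⟩)
    (C.mf_mono fun s hs => ⟨(hP s).1 hs, (h s hs).symm⟩)

theorem apply_mul (g h : ↥(D.group F)) (x : Fin k → ℂ) : C.ρ (g * h) x = C.ρ g (C.ρ h x) := by
  rw [map_mul]; rfl

theorem apply_inv_self (g : ↥(D.group F)) (x : Fin k → ℂ) : C.ρ g⁻¹ (C.ρ g x) = x := by
  rw [← apply_mul, inv_mul_cancel, map_one]; rfl

theorem apply_self_inv (g : ↥(D.group F)) (x : Fin k → ℂ) : C.ρ g (C.ρ g⁻¹ x) = x := by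
  rw [← apply_mul, mul_inv_cancel, map_one]; rfl

/-- the effect of `x_r(t)` on characters -/
def mvf (r : Rt D) (t : F) (f : Rt D → F) : Rt D → F := fun s =>
  match ent D r s with
  | none => f s
  | some (c, z) => f s + -((z : F) * t * f c)

theorem mvf_none {r s : Rt D} (h : ent D r s = none) (t : F) (f : Rt D → F) : mvf r t f s = f s := by
  simp [mvf, h]

theorem mvf_some {r s c : Rt D} {z : ℤ} (h : ent D r s = some (c, z)) (t : F) (f : Rt D → F) :
    mvf r t f s = f s + -((z : F) * t * f c) := by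
  simp [mvf, h]

/-- `x_r` moves the characters of the roots in `P` among themselves -/
def stableB (P : List (Rt D)) (r : Rt D) : Bool :=
  P.all fun s => decide (s.val ≠ nng D r.val) &&
    match ent D r s with
    | none => true
    | some (c, _) => decide (c ∈ P)

theorem stableB_iff {P : List (Rt D)} {r : Rt D} : stableB P r = true ↔ ∀ s ∈ P,
    s.val ≠ D.neg r.val ∧ (ent D r s = none ∨ ∃ c z, ent D r s = some (c, z) ∧ c ∈ P) := by
  simp only [stableB, nng_eq, List.all_eq_true, Bool.and_eq_true, decide_eq_true_eq]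
  refine forall_congr' fun s => forall_congr' fun _ => and_congr_right fun _ => ?_
  rcases ent D r s with _ | ⟨c, z⟩ <;> simp

/-- transport of a joint eigenvector by a root element -/
theorem move_mem {P : List (Rt D)} {r : Rt D} (h : stableB P r = true) {t : F} {f : Rt D → F}
    {x : Fin k → ℂ} (hx : x ∈ C.eig P f) : C.ρ (X C.hS r t) x ∈ C.eig P (mvf r t f) := by
  intro s hs u
  have key : C.ρ ((X C.hS r t)⁻¹ * X C.hS s u * X C.hS r t) x = C.ψ (mvf r t f s * u) • x := by
    obtain ⟨hn, he | ⟨c, z, he, hc⟩⟩ := stableB_iff.1 h s hs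
    · rw [X_comm C.hS r s hn he, mvf_none he, C.mem_eig.1 hx s hs u]
    · rw [X_conj C.hS r s c he, C.apply_mul, C.mem_eig.1 hx c hc, map_smul, C.mem_eig.1 hx s hs u,
        smul_smul, ← AddChar.map_add_eq_mul, mvf_some he]
      congr 2
      ring
  rw [mul_assoc, C.apply_mul (X C.hS r t)⁻¹, C.apply_mul] at key
  have e2 := congrArg (C.ρ (X C.hS r t)) key
  rwa [apply_self_inv, map_smul] at e2

theorem mf_le_mvf {P : List (Rt D)} {r : Rt D} (h : stableB P r = true) (t : F) (f : Rt D → F) :
    C.mf P f ≤ C.mf P (mvf r t f) := by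
  refine LinearMap.finrank_le_finrank_of_injective
    (f := (C.ρ (X C.hS r t)).restrict (p := C.eig P f) (q := C.eig P (mvf r t f))
      fun x hx => C.move_mem h hx) ?_
  intro x y e
  exact Subtype.ext (Function.LeftInverse.injective (C.apply_inv_self _) (congrArg Subtype.val e))

/-- `x_r` preserves the joint eigenspace when the character is fixed -/
theorem inv_of_fix {P : List (Rt D)} {r : Rt D} (h : stableB P r = true) {f : Rt D → F}
    (hf : ∀ t, ∀ s ∈ P, mvf r t f s = f s) (t : F) {x : Fin k → ℂ} (hx : x ∈ C.eig P f) :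
    C.ρ (X C.hS r t) x ∈ C.eig P f :=
  C.eig_mono (fun s hs => ⟨hs, hf t s hs⟩) (C.move_mem h hx)

/-- decomposition of an invariant subspace along a root group -/
theorem finrank_split (r : Rt D) (P : List (Rt D)) (f : Rt D → F) (hr : r ∉ P)
    (hU : ∀ u, ∀ x ∈ C.eig P f, C.ρ (X C.hS r u) x ∈ C.eig P f) :
    C.mf P f = ∑ a : F, C.mf (r :: P) (Function.update f r a) := by
  classical
  have hqc : (Fintype.card F : ℂ) ≠ 0 := Nat.cast_ne_zero.mpr Fintype.card_ne_zero
  set U := C.eig P f with hUdef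
  let R : F → Module.End ℂ U := fun u => (C.ρ (X C.hS r u)).restrict (hU u)
  have hRv : ∀ u (x : U), (R u x : Fin k → ℂ) = C.ρ (X C.hS r u) x := fun u x => rfl
  let Q : F → Module.End ℂ U := fun a =>
    (Fintype.card F : ℂ)⁻¹ • ∑ u : F, C.ψ (-(a * u)) • R u
  have hQ : ∀ a (x : U), (Q a x : Fin k → ℂ) =
      (Fintype.card F : ℂ)⁻¹ • ∑ u : F, C.ψ (-(a * u)) • C.ρ (X C.hS r u) x := by
    intro a x
    simp [Q, hRv]
  have hE : ∀ a x, x ∈ C.eig (r :: P) (Function.update f r a) ↔
      x ∈ U ∧ ∀ u, C.ρ (X C.hS r u) x = C.ψ (a * u) • x := by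
    intro a x
    rw [mem_eig, hUdef, mem_eig, List.forall_mem_cons, Function.update_self, and_comm]
    refine and_congr_left' (forall_congr' fun s => forall_congr' fun hs => ?_)
    rw [Function.update_of_ne (by rintro rfl; exact hr hs)]
  have hmem : ∀ a (x : U), (Q a x : Fin k → ℂ) ∈ C.eig (r :: P) (Function.update f r a) := by
    intro a x
    refine (hE a _).2 ⟨(Q a x).2, fun v => ?_⟩
    rw [hQ, map_smul, map_sum, smul_comm (C.ψ (a * v))]
    refine congrArg _ ?_
    rw [Finset.smul_sum]
    refine Fintype.sum_equiv (Equiv.addLeft v) _ _ fun u => ?_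
    rw [Equiv.coe_addLeft, map_smul, ← C.apply_mul, ← X_add, smul_smul, ← AddChar.map_add_eq_mul]
    congr 2
    ring
  have hfix : ∀ a (x : U), (x : Fin k → ℂ) ∈ C.eig (r :: P) (Function.update f r a) → Q a x = x := by
    intro a x hx
    apply Subtype.ext
    rw [hQ]
    have : ∀ u : F, C.ψ (-(a * u)) • C.ρ (X C.hS r u) (x : Fin k → ℂ) = (x : Fin k → ℂ) := fun u => by
      rw [((hE a _).1 hx).2 u, smul_smul, ← AddChar.map_add_eq_mul, neg_add_cancel,
        AddChar.map_zero_eq_one, one_smul]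
    rw [Finset.sum_congr rfl fun u _ => this u, Finset.sum_const, Finset.card_univ,
      ← Nat.cast_smul_eq_nsmul ℂ, inv_smul_smul₀ hqc]
  have hproj : ∀ a, LinearMap.IsProj
      (Submodule.comap U.subtype (C.eig (r :: P) (Function.update f r a))) (Q a) := fun a =>
    ⟨fun x => hmem a x, fun x hx => hfix a x hx⟩
  have hsum : ∑ a : F, Q a = LinearMap.id := by
    apply LinearMap.ext; intro x
    apply Subtype.ext
    rw [LinearMap.sum_apply, Submodule.coe_sum, LinearMap.id_apply]
    simp_rw [hQ, ← Finset.smul_sum]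
    rw [Finset.sum_comm]
    have : ∀ u : F, (∑ a : F, C.ψ (-(a * u)) • C.ρ (X C.hS r u) (x : Fin k → ℂ)) =
        if u = 0 then (Fintype.card F : ℂ) • (x : Fin k → ℂ) else 0 := by
      intro u
      rw [← Finset.sum_smul]
      have e : ∑ a : F, C.ψ (-(a * u)) = if -u = 0 then (Fintype.card F : ℂ) else 0 := by
        have e0 := AddChar.sum_mulShift (-u) C.hψ
        simpa [mul_neg] using e0
      rw [e]
      by_cases hu : u = 0
      · subst hu; rw [if_pos neg_zero, if_pos rfl, X_zero, map_one]; rfl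
      · rw [if_neg (neg_ne_zero.mpr hu), if_neg hu, zero_smul]
    rw [Finset.sum_congr rfl fun u _ => this u, Finset.sum_ite_eq', if_pos (Finset.mem_univ _),
      inv_smul_smul₀ hqc]
  have htr : (Module.finrank ℂ U : ℂ) =
      ∑ a : F, (C.mf (r :: P) (Function.update f r a) : ℂ) := by
    rw [← LinearMap.trace_id ℂ U, ← hsum, map_sum]
    refine Finset.sum_congr rfl fun a _ => ?_
    haveI : FiniteDimensional ℂ U := inferInstance
    rw [trace_proj (hproj a)]
    congr 1
    exact (Submodule.comapSubtypeEquivOfLe fun x hx => ((hE a x).1 hx).1).finrank_eq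
  exact_mod_cast htr

end Ctx

end Cfsg.Agent.RootMove54
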