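import Cfsg.Agent.Chev54.RootMove.Count

/-!
One level of the recursion: the characters of an abelian radical `R` that are trivial on the roots `prior`
either have a nonzero residual part, or contain all cells of the orbit of a single root.
-/

set_option autoImplicit false

noncomputable section

namespace Cfsg.Agent.RootMove54

open Cfsg.Lie Cfsg.Agent.ChevCore Cfsg.Agent.KnownSimple.Steinberg

universe u

/-- the certificate data of one level -/
structure Lev (D : ChevalleyDatum) where
  prior : List (Rt D)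
  R : List (Rt D)
  w0 : Rt D
  kill : List (Rt D × Rt D)
  climb : List (Rt D × Rt D × Rt D)
  resd : ℕ
  res : List (Rt D × List (Rt D) × List (Rt D × Rt D))
  path : List (Rt D × Rt D × Rt D × Rt D)
  cells : List (Rt D × List (Rt D × Rt D))

variable {D : ChevalleyDatum} [Fast D] {F : Type u} [Field F] [Fintype F] {k : ℕ}

/-- the roots of a level -/
abbrev Lev.P (L : Lev D) : List (Rt D) := L.R ++ L.prior

/-- a character supported at one root -/
def dlt (c : Rt D) (t : F) : Rt D → F := Function.update (fun _ => 0) c t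

theorem dlt_self (c : Rt D) (t : F) : dlt c t c = t := Function.update_self ..

theorem dlt_ne {c x : Rt D} (h : x ≠ c) (t : F) : dlt c t x = 0 := Function.update_of_ne h ..

namespace Ctx

/-- roots whose coordinate can be carried to one already reached -/
def climbB (P prior : List (Rt D)) : List (Rt D) → List (Rt D × Rt D × Rt D) → Bool
  | _, [] => true
  | good, (r, s, c) :: l => stableB P r && decide (s ∈ good) && decide (s ∈ P) &&
      (match ent D r s with | none => false | some (c', _) => decide (c' = c)) &&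
      (prior.all fun x => match ent D r x with | none => true | some (c', _) => decide (c' ∈ prior)) &&
      climbB P prior (c :: good) l

/-- the roots reached by a climb -/
def reached : List (Rt D) → List (Rt D × Rt D × Rt D) → List (Rt D)
  | good, [] => good
  | good, e :: l => reached (e.2.2 :: good) l

/-- one step of a path of single roots -/
def edgeB (P : List (Rt D)) (r r' c d : Rt D) : Bool :=
  stableB P r && stableB P r' && decide (c ≠ d) && decide (c ∈ P) && decide (d ∈ P) &&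
    (match ent D r d with | none => false | some (c', _) => decide (c' = c)) &&
    (match ent D r' c with | none => false | some (c', _) => decide (c' = d)) &&
    (P.all fun x => decide (x = d) ||
      match ent D r x with | none => true | some (c', _) => decide (c' ≠ c)) &&
    (P.all fun x => decide (x = c) ||
      match ent D r' x with | none => true | some (c', _) => decide (c' ≠ c) && decide (c' ≠ d))

/-- a path of single roots -/
def pathB (P : List (Rt D)) : List (Rt D) → List (Rt D × Rt D × Rt D × Rt D) → Bool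
  | _, [] => true
  | good, (r, r', c, d) :: l => decide (c ∈ good) && edgeB P r r' c d && edgeB P r' r d c &&
      pathB P (d :: good) l

/-- the roots reached by a path -/
def pathEnd : List (Rt D) → List (Rt D × Rt D × Rt D × Rt D) → List (Rt D)
  | good, [] => good
  | good, e :: l => pathEnd (e.2.2.2 :: good) l

/-- every residual entry only asks for zeros at earlier entries -/
def seenB : List (Rt D) → List (Rt D × List (Rt D) × List (Rt D × Rt D)) → Bool
  | _, [] => true
  | seen, e :: l => (e.2.1.all fun x => decide (x ∈ seen)) && seenB (e.1 :: seen) l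

theorem first_nonzero (g : Rt D → F) (l : List (Rt D × List (Rt D) × List (Rt D × Rt D))) :
    ∀ seen, seenB seen l = true → (∀ x ∈ seen, g x = 0) → (∃ e ∈ l, g e.1 ≠ 0) →
      ∃ e ∈ l, g e.1 ≠ 0 ∧ ∀ x ∈ e.2.1, g x = 0 := by
  induction l with
  | nil => intro seen _ _ h; simp at h
  | cons e l ih =>
    intro seen hB hz h
    simp only [seenB, Bool.and_eq_true, decide_eq_true_eq, List.all_eq_true] at hB
    by_cases he : g e.1 = 0
    · obtain ⟨e', he', h'⟩ := h
      rcases List.mem_cons.1 he' with rfl | he'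
      · exact absurd he h'
      obtain ⟨e'', h1, h2⟩ := ih (e.1 :: seen) hB.2
        (List.forall_mem_cons.2 ⟨he, hz⟩) ⟨e', he', h'⟩
      exact ⟨e'', List.mem_cons_of_mem _ h1, h2⟩
    · exact ⟨e, List.mem_cons_self, he, fun x hx => hz x (hB.1 x hx)⟩

/-- the cells, in increasing order of the leading root -/
def cellsB (P prior : List (Rt D)) : List (Rt D) → List (Rt D × List (Rt D × Rt D)) → Bool
  | _, [] => true
  | prev, (u, st) :: l => decide (u ∈ P) && (prev.all fun x => decide (x ∈ P ∧ x ≠ u)) && (prior.all fun x => decide (x ∈ P ∧ x ≠ u)) &&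
      splitB prior (prev ++ prior) [u] && stepsB P (prev ++ prior) u [] st &&
      splitB prior (u :: (prev ++ prior)) (st.map Prod.snd) && (st.all fun p => decide (p.2 ∈ P)) &&
      cellsB P prior (u :: prev) l

end Ctx

/-- all conditions on the data of a level -/
def Lev.check (L : Lev D) : Bool :=
  Ctx.climbB L.P L.prior [L.w0] L.climb &&
  (L.R.all fun x => decide (x ∈ Ctx.reached [L.w0] L.climb)) &&
  decide (L.w0 ∈ L.R) && decide (L.w0 ∉ L.prior) &&
  (L.prior.all fun x => decide (x ∉ L.R)) &&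
  Ctx.stepsB L.P L.prior L.w0 [] L.kill &&
  (L.kill.all fun p => decide (p.2 ∈ L.R)) &&
  (L.R.all fun x => decide (x = L.w0 ∨ x ∈ L.kill.map Prod.snd ∨ x ∈ L.res.map Prod.fst)) &&
  Ctx.stepsB (L.kill.map Prod.snd ++ (L.w0 :: L.prior)) L.prior L.w0 [] L.kill &&
  Ctx.splitB L.prior (L.w0 :: L.prior) (L.kill.map Prod.snd) &&
  (Ctx.seenB [] L.res && L.res.all fun e => decide (L.resd ≤ e.2.2.length) &&
    Ctx.stepsB L.P (L.kill.map Prod.snd ++ (e.2.1 ++ L.prior)) e.1 [L.w0] e.2.2 &&
    Ctx.splitB L.prior (L.kill.map Prod.snd ++ (L.w0 :: L.prior)) (e.2.2.map Prod.snd) &&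
    (e.2.2.all fun p => decide (p.2 ∈ L.R))) &&
  Ctx.pathB L.P [L.w0] L.path &&
  (L.R.all fun x => decide (x ∈ Ctx.pathEnd [L.w0] L.path)) &&
  Ctx.splitB L.prior L.prior L.R &&
  Ctx.cellsB L.P L.prior [] L.cells &&
  (L.R.all fun x => decide (x ∈ L.cells.map Prod.fst))

/-- the number of characters in all cells -/
def Lev.total (L : Lev D) (q : ℕ) : ℕ := (L.cells.map fun e => (q - 1) * q ^ e.2.length).sum

namespace Ctx

variable (C : Ctx D F k)

theorem climb_spec {P prior : List (Rt D)} {c0 : ℕ} (l : List (Rt D × Rt D × Rt D)) :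
    ∀ good, climbB P prior good l = true → ∀ f : Rt D → F, c0 ≤ C.mf P f → (∀ z ∈ prior, f z = 0) →
      (∃ x ∈ reached good l, f x ≠ 0) →
      ∃ g : Rt D → F, c0 ≤ C.mf P g ∧ (∀ z ∈ prior, g z = 0) ∧ ∃ x ∈ good, g x ≠ 0 := by
  induction l with
  | nil => intro good _ f hc hz h; exact ⟨f, hc, hz, h⟩
  | cons e l ih =>
    obtain ⟨r, s, c⟩ := e
    intro good hB f hc hz h
    simp only [climbB, Bool.and_eq_true, decide_eq_true_eq, List.all_eq_true] at hB
    obtain ⟨⟨⟨⟨⟨hst, hs⟩, -⟩, he⟩, hp⟩, hB'⟩ := hB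
    obtain ⟨g, hg1, hg2, x, hx, hgx⟩ := ih (c :: good) hB' f hc hz h
    rcases List.mem_cons.1 hx with rfl | hx
    swap
    · exact ⟨g, hg1, hg2, x, hx, hgx⟩
    by_cases hgs : g s = 0
    swap
    · exact ⟨g, hg1, hg2, s, hs, hgs⟩
    rcases e : ent D r s with _ | ⟨c', z⟩
    · rw [e] at he; simp at he
    rw [e] at he
    obtain rfl : c' = x := of_decide_eq_true he
    obtain ⟨-, hz'⟩ := ent_some C.hS e
    refine ⟨mvf r 1 g, hg1.trans (C.mf_le_mvf hst 1 g), fun y hy => ?_, s, hs, ?_⟩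
    · have := hp y hy
      rcases ey : ent D r y with _ | ⟨c'', z''⟩
      · rw [mvf_none ey]; exact hg2 y hy
      · rw [ey] at this
        rw [mvf_some ey, hg2 y hy, hg2 _ (of_decide_eq_true this), mul_zero, neg_zero, add_zero]
    · rw [mvf_some e, hgs, zero_add, mul_one]
      exact neg_ne_zero.2 (mul_ne_zero (cast_sign_ne_zero hz') hgx)

theorem edge_spec {P : List (Rt D)} {r r' c d : Rt D} (h : edgeB P r r' c d = true) {c0 : ℕ} {t : F}
    (ht : t ≠ 0) (hc : c0 ≤ C.mf P (dlt c t)) {b : F} (hb : b ≠ 0) : c0 ≤ C.mf P (dlt d b) := by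
  simp only [edgeB, Bool.and_eq_true, Bool.or_eq_true, decide_eq_true_eq, List.all_eq_true] at h
  obtain ⟨⟨⟨⟨⟨⟨⟨⟨hst, hst'⟩, hcd⟩, hcP⟩, hdP⟩, he⟩, he'⟩, hx⟩, hx'⟩ := h
  rcases e : ent D r d with _ | ⟨c₁, z⟩
  · rw [e] at he; simp at he
  rw [e] at he
  obtain rfl : c₁ = c := of_decide_eq_true he
  rcases e' : ent D r' c₁ with _ | ⟨d₁, z'⟩
  · rw [e'] at he'; simp at he'
  rw [e'] at he'
  obtain rfl : d₁ = d := of_decide_eq_true he'
  have hz : (z : F) ≠ 0 := cast_sign_ne_zero (ent_some C.hS e).2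
  have hz' : (z' : F) ≠ 0 := cast_sign_ne_zero (ent_some C.hS e').2
  set f1 := mvf r (-(b / ((z : F) * t))) (dlt c₁ t) with hf1
  have h1 : ∀ x ∈ P, f1 x = if x = d₁ then b else dlt c₁ t x := by
    intro x hxP
    by_cases hxd : x = d₁
    · subst hxd
      rw [if_pos rfl, hf1, mvf_some e, dlt_ne hcd.symm, dlt_self]
      field_simp
      ring
    · rw [if_neg hxd, hf1]
      have := (hx x hxP).resolve_left hxd
      rcases ex : ent D r x with _ | ⟨c₂, z₂⟩
      · rw [mvf_none ex]
      · rw [ex] at this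
        rw [mvf_some ex, dlt_ne (of_decide_eq_true this), mul_zero, neg_zero, add_zero]
  refine (hc.trans (C.mf_le_mvf hst _ _)).trans ((C.mf_le_mvf hst' (t / ((z' : F) * b)) f1).trans
    (le_of_eq (C.mf_congr (fun _ => Iff.rfl) fun x hxP => ?_)))
  by_cases hxc : x = c₁
  · subst hxc
    rw [mvf_some e', h1 x hxP, if_neg hcd, h1 d₁ hdP, if_pos rfl, dlt_self, dlt_ne hcd]
    field_simp
    ring
  · have := (hx' x hxP).resolve_left hxc
    have hv : f1 x = dlt d₁ b x := by
      rw [h1 x hxP]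
      by_cases hxd : x = d₁
      · rw [if_pos hxd, hxd, dlt_self]
      · rw [if_neg hxd, dlt_ne hxc, dlt_ne hxd]
    rcases ex : ent D r' x with _ | ⟨c₂, z₂⟩
    · rw [mvf_none ex, hv]
    · rw [ex] at this
      simp only [Bool.and_eq_true, decide_eq_true_eq, List.all_eq_true] at this
      obtain ⟨hn, hP⟩ := (stableB_iff.1 hst' x hxP)
      have hc2 : c₂ ∈ P := by
        rcases hP with h | ⟨c', z'', h, hc'⟩
        · rw [ex] at h; cases h
        · rw [ex] at h; cases h; exact hc'
      rw [mvf_some ex, hv, h1 c₂ hc2, if_neg this.2, dlt_ne this.1, mul_zero, neg_zero, add_zero]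

theorem path_spec {P : List (Rt D)} {c0 : ℕ} (l : List (Rt D × Rt D × Rt D × Rt D)) :
    ∀ good, pathB P good l = true → (∀ x ∈ good, ∀ b : F, b ≠ 0 → c0 ≤ C.mf P (dlt x b)) →
      ∀ x ∈ pathEnd good l, ∀ b : F, b ≠ 0 → c0 ≤ C.mf P (dlt x b) := by
  induction l with
  | nil => intro good _ h; exact h
  | cons e l ih =>
    obtain ⟨r, r', c, d⟩ := e
    intro good hB h
    simp only [pathB, Bool.and_eq_true, decide_eq_true_eq, List.all_eq_true] at hB
    obtain ⟨⟨⟨hc, he⟩, -⟩, hB'⟩ := hB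
    refine ih (d :: good) hB' fun x hx b hb => ?_
    rcases List.mem_cons.1 hx with rfl | hx
    · exact C.edge_spec he one_ne_zero (h c hc 1 one_ne_zero) hb
    · exact h x hx b hb

theorem rescale {P : List (Rt D)} {r r' c d : Rt D} {l : List (Rt D × Rt D × Rt D × Rt D)}
    (h : pathB P [c] ((r, r', c, d) :: l) = true) {c0 : ℕ} {t : F} (ht : t ≠ 0)
    (hc : c0 ≤ C.mf P (dlt c t)) {b : F} (hb : b ≠ 0) : c0 ≤ C.mf P (dlt c b) := by
  simp only [pathB, Bool.and_eq_true, decide_eq_true_eq, List.all_eq_true] at h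
  exact C.edge_spec h.1.2 one_ne_zero (C.edge_spec h.1.1.2 ht hc one_ne_zero) hb

theorem cells_spec {P prior : List (Rt D)} {c0 : ℕ}
    (l : List (Rt D × List (Rt D × Rt D))) :
    ∀ prev, cellsB P prior prev l = true →
      (∀ e ∈ l, ∀ b : F, b ≠ 0 → c0 ≤ C.mf P (dlt e.1 b)) →
      C.mf ((l.map Prod.fst).reverse ++ prev ++ prior) (fun _ => 0) +
        c0 * (l.map fun e => (Fintype.card F - 1) * Fintype.card F ^ e.2.length).sum ≤
      C.mf (prev ++ prior) (fun _ => 0) := by
  classical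
  induction l with
  | nil => intro prev _ _; simp
  | cons e l ih =>
    obtain ⟨u, st⟩ := e
    intro prev hB hdl
    simp only [cellsB, Bool.and_eq_true, decide_eq_true_eq, List.all_eq_true] at hB
    obtain ⟨⟨⟨⟨⟨⟨⟨hu, hprev⟩, hprior⟩, hsp⟩, hstep⟩, hsp2⟩, hT⟩, hB'⟩ := hB
    have key : ∀ a : F, a ≠ 0 → Fintype.card F ^ st.length * c0 ≤
        C.mf (u :: (prev ++ prior)) (Function.update (fun _ => 0) u a) := by
      intro a ha
      have hz : ∀ z ∈ prev ++ prior, dlt u a z = 0 := fun z hz => by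
        rcases List.mem_append.1 hz with h | h
        exacts [dlt_ne (hprev z h).2 a, dlt_ne (hprior z h).2 a]
      refine C.cell_bound hsp2 hstep (List.all_eq_true.2 fun x hx => ?_)
        (List.all_eq_true.2 fun p hp => decide_eq_true (hT p hp)) hz
        (fun z hz' => hz z (List.mem_append_right _ hz')) (by rw [Function.update_self]; exact ha)
        (hdl (u, st) List.mem_cons_self a ha)
      simp only [Bool.and_eq_true, decide_eq_true_eq, List.append_nil]
      refine ⟨hx, ?_⟩
      rcases List.mem_cons.1 hx with rfl | hx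
      · exact hu
      · rcases List.mem_append.1 hx with h | h
        exacts [(hprev x h).1, (hprior x h).1]
    have h2 := ih (u :: prev) hB' fun e he => hdl e (List.mem_cons_of_mem _ he)
    rw [C.split_one hsp (fun _ _ => rfl), ← Finset.add_sum_erase _ _ (Finset.mem_univ (0 : F))]
    rw [show Function.update (fun _ => (0 : F)) u 0 = (fun _ => (0 : F)) from
      Function.update_eq_self u (fun _ => (0 : F))]
    have h3 : c0 * ((Fintype.card F - 1) * Fintype.card F ^ st.length) ≤
        ∑ a ∈ Finset.univ.erase (0 : F), C.mf (u :: (prev ++ prior))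
          (Function.update (fun _ => 0) u a) := by
      calc c0 * ((Fintype.card F - 1) * Fintype.card F ^ st.length)
          = ∑ _a ∈ Finset.univ.erase (0 : F), Fintype.card F ^ st.length * c0 := by
            rw [Finset.sum_const, Finset.card_erase_of_mem (Finset.mem_univ _), Finset.card_univ,
              smul_eq_mul]
            ring
        _ ≤ _ := Finset.sum_le_sum fun a ha => key a (Finset.mem_erase.1 ha).1
    simp only [List.map_cons, List.sum_cons, List.reverse_cons, List.append_assoc, List.singleton_append,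
      List.cons_append, mul_add] at h2 ⊢
    calc _ = (C.mf ((l.map Prod.fst).reverse ++ u :: (prev ++ prior)) (fun _ => 0) +
          c0 * (l.map fun e => (Fintype.card F - 1) * Fintype.card F ^ e.2.length).sum) +
            c0 * ((Fintype.card F - 1) * Fintype.card F ^ st.length) := by
          ac_rfl
      _ ≤ _ := add_le_add h2 h3

variable {L : Lev D}

theorem exists_gen (hL : L.check = true)
    (h : C.mf L.P (fun _ => 0) < C.mf L.prior (fun _ => 0)) :
    ∃ f : Rt D → F, (∀ z ∈ L.prior, f z = 0) ∧ (∃ x ∈ L.R, f x ≠ 0) ∧ 1 ≤ C.mf L.P f := by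
  simp only [Lev.check, Bool.and_eq_true] at hL
  obtain ⟨⟨⟨-, hR⟩, -⟩, -⟩ := hL
  exact C.exists_ne_of_lt hR (fun _ _ => rfl) (fun _ _ => rfl) h

/-- a residual part gives a large eigenspace -/
theorem residual_big (hL : L.check = true) {c0 : ℕ} {g' : Rt D → F} (hgz' : ∀ z ∈ L.prior, g' z = 0)
    (hgy : g' L.w0 ≠ 0) (hg0 : ∀ p ∈ L.kill, g' p.2 = 0) (hg' : c0 ≤ C.mf L.P g')
    {e : Rt D × List (Rt D) × List (Rt D × Rt D)} (he : e ∈ L.res) (hge : g' e.1 ≠ 0)
    (hze : ∀ x ∈ e.2.1, g' x = 0) :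
    Fintype.card F ^ (L.kill.length + L.resd) * c0 ≤ C.mf L.prior (fun _ => 0) := by
  simp only [Lev.check, Bool.and_eq_true, decide_eq_true_eq, List.all_eq_true] at hL
  obtain ⟨⟨⟨⟨⟨⟨⟨⟨⟨⟨⟨⟨⟨⟨⟨hcl, hreach⟩, hw⟩, hwp⟩, hdisj⟩, hkill⟩, hkR⟩, hcov⟩, hkill1⟩, hsp1⟩, hres⟩, -⟩, -⟩, -⟩, -⟩, -⟩ := hL
  obtain ⟨⟨⟨hlen, hstep⟩, hsp2⟩, heR⟩ := hres.2 e he
  have hP1 : ∀ z ∈ L.kill.map Prod.snd ++ (e.2.1 ++ L.prior), g' z = 0 := fun z hz => by
    rcases List.mem_append.1 hz with h | h
    · obtain ⟨p, hp, rfl⟩ := List.mem_map.1 h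
      exact hg0 p hp
    · rcases List.mem_append.1 h with h | h
      exacts [hze z h, hgz' z h]
  have b1 : Fintype.card F ^ L.resd * c0 ≤ C.mf (L.kill.map Prod.snd ++ (L.w0 :: L.prior)) g' := by
    refine (Nat.mul_le_mul_right c0 (Nat.pow_le_pow_right Fintype.card_pos hlen)).trans ?_
    refine C.cell_bound hsp2 hstep (List.all_eq_true.2 fun z hz => ?_)
      (List.all_eq_true.2 fun p hp => decide_eq_true (List.mem_append_left _ (heR p hp))) hP1 hgz' hge hg'
    simp only [Bool.and_eq_true, decide_eq_true_eq, List.mem_append, List.mem_cons, List.mem_map,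
      List.not_mem_nil, or_false] at hz ⊢
    refine ⟨?_, ?_⟩
    · rcases hz with h | h | h
      exacts [Or.inl (Or.inr (Or.inl h)), Or.inr h, Or.inl (Or.inr (Or.inr (Or.inr h)))]
    rcases hz with ⟨p, hp, rfl⟩ | rfl | h
    exacts [Or.inl (hkR p hp), Or.inl hw, Or.inr h]
  have b2 := C.cell_bound (P' := L.w0 :: L.prior) hsp1 hkill1 (List.all_eq_true.2 fun z hz => by
      simp only [Bool.and_eq_true, decide_eq_true_eq, List.mem_append, List.mem_cons] at hz ⊢
      tauto)
    (List.all_eq_true.2 fun p hp => decide_eq_true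
      (List.mem_append_left _ (List.mem_map_of_mem hp))) hgz' hgz' hgy le_rfl
  calc Fintype.card F ^ (L.kill.length + L.resd) * c0
      = Fintype.card F ^ L.kill.length * (Fintype.card F ^ L.resd * c0) := by ring
    _ ≤ Fintype.card F ^ L.kill.length * C.mf (L.kill.map Prod.snd ++ (L.w0 :: L.prior)) g' :=
        Nat.mul_le_mul_left _ b1
    _ ≤ C.mf (L.w0 :: L.prior) g' := b2
    _ ≤ _ := C.mf_mono fun z hz => ⟨List.mem_cons_of_mem _ hz, hgz' z hz⟩

/-- a residual part gives a large eigenspace; otherwise the character is that of a single root -/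
theorem normal_form (hL : L.check = true) {c0 : ℕ} {f : Rt D → F} (hz : ∀ z ∈ L.prior, f z = 0)
    (hne : ∃ x ∈ L.R, f x ≠ 0) (hc : c0 ≤ C.mf L.P f) :
    (L.res ≠ [] ∧ Fintype.card F ^ (L.kill.length + L.resd) * c0 ≤ C.mf L.prior (fun _ => 0)) ∨
      ∃ t : F, t ≠ 0 ∧ c0 ≤ C.mf L.P (dlt L.w0 t) := by
  have hL' := hL
  simp only [Lev.check, Bool.and_eq_true, decide_eq_true_eq, List.all_eq_true] at hL
  obtain ⟨⟨⟨⟨⟨⟨⟨⟨⟨⟨⟨⟨⟨⟨⟨hcl, hreach⟩, hw⟩, hwp⟩, hdisj⟩, hkill⟩, hkR⟩, hcov⟩, hkill1⟩, hsp1⟩, hres⟩, -⟩, -⟩, -⟩, -⟩, -⟩ := hL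
  obtain ⟨x, hx, hfx⟩ := hne
  obtain ⟨g, hg, hgz, y, hy, hgy⟩ := C.climb_spec L.climb [L.w0] hcl f hc hz ⟨x, hreach x hx, hfx⟩
  obtain rfl := List.mem_singleton.1 hy
  obtain ⟨g', hg', hgK, hg0⟩ := C.lift L.kill [] g hkill hgz hgy hg (fun _ => 0)
  have hgw : g' L.w0 = g L.w0 := hgK _ (by simp)
  have hgz' : ∀ z ∈ L.prior, g' z = 0 := fun z h => by rw [hgK z (by simp [h]), hgz z h]
  by_cases hr : ∃ e ∈ L.res, g' e.1 ≠ 0
  · left
    obtain ⟨e, he, hge, hze⟩ := first_nonzero g' L.res [] hres.1 (fun x hx => absurd hx List.not_mem_nil) hr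
    exact ⟨List.ne_nil_of_mem he, C.residual_big hL' hgz' (by rw [hgw]; exact hgy) hg0 hg' he hge hze⟩
  · right
    push Not at hr
    refine ⟨g L.w0, hgy, hg'.trans (le_of_eq (C.mf_congr (fun _ => Iff.rfl) fun z hz => ?_))⟩
    rcases List.mem_append.1 hz with h | h
    · by_cases hzw : z = L.w0
      · rw [hzw, hgw, dlt_self]
      · rw [dlt_ne hzw]
        rcases hcov z h with h' | h' | h'
        · exact absurd h' hzw
        · obtain ⟨p, hp, rfl⟩ := List.mem_map.1 h'
          exact hg0 p hp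
        · obtain ⟨e, he, rfl⟩ := List.mem_map.1 h'
          exact hr e he
    · rw [hgz' z h, dlt_ne (fun e : z = L.w0 => hwp (e ▸ h))]

theorem reach_all (hL : L.check = true) {c0 : ℕ}
    (h : ∀ b : F, b ≠ 0 → c0 ≤ C.mf L.P (dlt L.w0 b)) :
    ∀ x ∈ L.R, ∀ b : F, b ≠ 0 → c0 ≤ C.mf L.P (dlt x b) := by
  simp only [Lev.check, Bool.and_eq_true, decide_eq_true_eq, List.all_eq_true] at hL
  obtain ⟨⟨⟨⟨⟨-, hp⟩, hend⟩, -⟩, -⟩, -⟩ := hL
  exact fun x hx => C.path_spec L.path [L.w0] hp (fun y hy => by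
    obtain rfl := List.mem_singleton.1 hy; exact h) x (hend x hx)

/-- all cells occur -/
theorem cells_bound (hL : L.check = true) (hu : L.cells.map Prod.fst = L.R) {c0 : ℕ}
    (h : ∀ b : F, b ≠ 0 → c0 ≤ C.mf L.P (dlt L.w0 b)) :
    C.mf L.P (fun _ => 0) + c0 * L.total (Fintype.card F) ≤ C.mf L.prior (fun _ => 0) := by
  have hall := C.reach_all hL h
  simp only [Lev.check, Bool.and_eq_true] at hL
  obtain ⟨⟨-, hcells⟩, -⟩ := hL
  have := C.cells_spec L.cells [] hcells fun e he => hall e.1 (hu ▸ List.mem_map_of_mem he)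
  refine le_trans (le_of_eq ?_) this
  rw [List.append_nil]
  congr 1
  exact C.mf_congr (fun x => by simp [Lev.P, hu]) fun _ _ => rfl

end Ctx

end Cfsg.Agent.RootMove54
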