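import Cfsg.Agent.Chev54.RootMove.Level

/-!
Two adjacent roots `a`, `b` with sum `c`: the fixed spaces of `a, c` and of `b, c` have equal dimension,
since all nonzero characters of either pair have the same multiplicity.
-/

set_option autoImplicit false

noncomputable section

namespace Cfsg.Agent.RootMove54

open Cfsg.Lie Cfsg.Agent.ChevCore Cfsg.Agent.KnownSimple.Steinberg

universe u

/-- certificate for the pair `a, c` over the frozen set `S`: translations of `a` by `c`, and swaps -/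
structure Half (D : ChevalleyDatum) where
  a : Rt D
  c : Rt D
  S : List (Rt D)
  tr : Rt D
  r : Rt D
  r' : Rt D

variable {D : ChevalleyDatum} [Fast D] {F : Type u} [Field F] [Fintype F] {k : ℕ}

/-- the roots of a pair -/
abbrev Half.P (H : Half D) : List (Rt D) := H.a :: H.c :: H.S

/-- conditions on a pair -/
def Half.check (H : Half D) : Bool :=
  decide (H.a ≠ H.c) && decide (H.a ∉ H.S) && decide (H.c ∉ H.S) &&
  Ctx.splitB H.S H.S [H.c] && Ctx.splitB H.S (H.c :: H.S) [H.a] &&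
  Ctx.stepsB H.P H.S H.c [] [(H.tr, H.a)] &&
  Ctx.edgeB H.P H.r H.r' H.c H.a && Ctx.edgeB H.P H.r' H.r H.a H.c

namespace Ctx

variable (C : Ctx D F k)

theorem half_trans {H : Half D} (h : H.check = true) (g g' : Rt D → F) (hz : ∀ x ∈ H.S, g x = 0)
    (hz' : ∀ x ∈ H.S, g' x = 0) (hc : g H.c = g' H.c) (hne : g H.c ≠ 0) :
    C.mf H.P g ≤ C.mf H.P g' := by
  simp only [Half.check, Bool.and_eq_true] at h
  obtain ⟨⟨⟨-, hst⟩, -⟩, -⟩ := h
  obtain ⟨g₁, h1, h2, h3⟩ := C.lift [(H.tr, H.a)] [] g hst hz hne le_rfl g'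
  refine h1.trans (le_of_eq (C.mf_congr (fun _ => Iff.rfl) fun x hx => ?_))
  rcases List.mem_cons.1 hx with rfl | hx
  · exact h3 (H.tr, H.a) List.mem_cons_self
  rcases List.mem_cons.1 hx with rfl | hx
  · rw [h2 _ (by simp), hc]
  · rw [h2 _ (by simp [hx]), hz x hx, hz' x hx]

/-- all nonzero characters of a pair have the same multiplicity -/
theorem half_spec {H : Half D} (h : H.check = true) :
    ∃ m : ℕ, (∀ t : F, t ≠ 0 → C.mf (H.c :: H.S) (dlt H.c t) = Fintype.card F * m) ∧
      (∀ x : F, x ≠ 0 → C.mf H.P (dlt H.a x) = m) ∧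
      (∀ t : F, t ≠ 0 → C.mf H.P (dlt H.c t) = m) ∧
      C.mf H.S (fun _ => 0) = C.mf H.P (fun _ => 0) + (Fintype.card F - 1) * (Fintype.card F + 1) * m := by
  classical
  have hh := h
  simp only [Half.check, Bool.and_eq_true, decide_eq_true_eq] at h
  obtain ⟨⟨⟨⟨⟨⟨⟨hac, haS⟩, hcS⟩, hsp1⟩, hsp2⟩, -⟩, he⟩, he'⟩ := h
  have one : (1 : F) ≠ 0 := one_ne_zero
  set m := C.mf H.P (dlt H.c (1 : F)) with hm
  have ha : ∀ x : F, x ≠ 0 → C.mf H.P (dlt H.a x) = m := fun x hx =>
    le_antisymm (C.edge_spec he' hx le_rfl one) (C.edge_spec he one le_rfl hx)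
  have hc : ∀ t : F, t ≠ 0 → C.mf H.P (dlt H.c t) = m := fun t ht =>
    le_antisymm ((C.edge_spec he ht le_rfl one).trans (ha 1 one).le)
      ((ha 1 one).ge.trans (C.edge_spec he' one le_rfl ht))
  have hS : ∀ t : F, ∀ x ∈ H.S, dlt H.c t x = 0 := fun t x hx =>
    dlt_ne (fun e : x = H.c => hcS (e ▸ hx)) t
  have hct : ∀ t : F, t ≠ 0 → C.mf (H.c :: H.S) (dlt H.c t) = Fintype.card F * m := by
    intro t ht
    rw [C.split_one hsp2 (fun x hx => hS t x hx)]
    rw [Finset.sum_congr rfl fun x _ => (?_ : C.mf (H.a :: H.c :: H.S) (Function.update (dlt H.c t) H.a x) = m),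
      Finset.sum_const, Finset.card_univ, smul_eq_mul]
    have hu : ∀ y ∈ H.S, Function.update (dlt H.c t) H.a x y = 0 := fun y hy => by
      rw [Function.update_of_ne (fun e => haS (by rw [← e]; exact hy)), hS t y hy]
    have hxc : Function.update (dlt H.c t) H.a x H.c = t := by
      rw [Function.update_of_ne hac.symm, dlt_self]
    rw [← hc t ht]
    exact le_antisymm (C.half_trans hh _ _ hu (hS t) (by rw [hxc, dlt_self]) (by rw [hxc]; exact ht))
      (C.half_trans hh _ _ (hS t) hu (by rw [hxc, dlt_self]) (by rw [dlt_self]; exact ht))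
  refine ⟨m, hct, ha, hc, ?_⟩
  have e1 : ∀ x ∈ (Finset.univ : Finset F).erase 0, C.mf (H.a :: H.c :: H.S)
      (Function.update (fun _ => (0 : F)) H.a x) = m := fun x hx => ha x (Finset.mem_erase.1 hx).1
  have e2 : ∀ t ∈ (Finset.univ : Finset F).erase 0, C.mf (H.c :: H.S)
      (Function.update (fun _ => (0 : F)) H.c t) = Fintype.card F * m :=
    fun t ht => hct t (Finset.mem_erase.1 ht).1
  rw [C.split_one hsp1 (fun _ _ => rfl), ← Finset.add_sum_erase _ _ (Finset.mem_univ (0 : F)),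
    show Function.update (fun _ => (0 : F)) H.c 0 = (fun _ => (0 : F)) from
      Function.update_eq_self H.c (fun _ => (0 : F)),
    C.split_one hsp2 (fun _ _ => rfl), ← Finset.add_sum_erase _ _ (Finset.mem_univ (0 : F)),
    show Function.update (fun _ => (0 : F)) H.a 0 = (fun _ => (0 : F)) from
      Function.update_eq_self H.a (fun _ => (0 : F)),
    Finset.sum_congr rfl e1, Finset.sum_congr rfl e2]
  simp only [Finset.sum_const, Finset.card_erase_of_mem (Finset.mem_univ _), Finset.card_univ, smul_eq_mul]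
  ring

/-- the two fixed spaces have the same dimension -/
theorem pair_fix_eq {H H' : Half D} (h : H.check = true) (h' : H'.check = true) (hc : H'.c = H.c)
    (hS : H'.S = H.S) : C.mf H.P (fun _ => (0 : F)) = C.mf H'.P (fun _ => 0) := by
  obtain ⟨m, h1, -, -, h2⟩ := C.half_spec h
  obtain ⟨m', h1', -, -, h2'⟩ := C.half_spec h'
  rw [hc, hS] at h1'
  have e : m = m' := Nat.eq_of_mul_eq_mul_left Fintype.card_pos
    ((h1 1 one_ne_zero).symm.trans (h1' 1 one_ne_zero))
  rw [hS] at h2'
  subst e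
  omega

end Ctx

end Cfsg.Agent.RootMove54
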